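import Groth.Agent.CurvFam16.DeltaNorm.Stalk
import Groth.Agent.DeltaLib.Basic
import Groth.Agent.H23.FinCondSch
import Groth.Agent.DixBrauer.CurveReduced
import Groth.Agent.S9679

/-! Branches against the delta invariant, and normalisations given on generic points. -/

noncomputable section

set_option autoImplicit false
set_option linter.style.haveILetI false
set_option linter.unusedSectionVars false
set_option backward.isDefEq.respectTransparency false
set_option backward.isDefEq.respectTransparency.types false

universe u

open CategoryTheory CategoryTheory.Limits AlgebraicGeometry TopologicalSpace Opposite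

namespace Groth.Agent.CurvFam16.DeltaNorm

open Groth.Agent

/-- There are at most `δ + 1` branches. -/
theorem numBranches_le (A : Type u) [CommRing A] [IsLocalRing A] [IsReduced A]
    (hfin : (minimalPrimes A).Finite) : Brnch.numBranches A ≤ Curv2.deltaInv A + 1 := by
  classical
  rw [Brnch.numBranches, if_pos hfin, DeltaLib.deltaInv_eq_length A]
  haveI : Algebra.IsIntegral A (CAlg2.normRed A) := by
    haveI : Algebra.IsIntegral A (CAlg2.red A) :=
      algebraMap_isIntegral_iff.1 (RingHom.isIntegral_of_surjective _ Ideal.Quotient.mk_surjective)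
    exact Algebra.IsIntegral.trans (CAlg2.red A)
  have hcomap : ∀ m : MaximalSpectrum (CAlg2.normRed A),
      m.asIdeal.comap (algebraMap A (CAlg2.normRed A)) = IsLocalRing.maximalIdeal A := fun m => by
    haveI := m.isMaximal
    exact IsLocalRing.eq_maximalIdeal (Ideal.isMaximal_comap_of_isIntegral_of_isMaximal m.asIdeal)
  have hs : ∀ s : Finset (MaximalSpectrum (CAlg2.normRed A)), (s.card : ℕ∞) ≤
      Module.length A (CAlg2.normRed A ⧸ LinearMap.range (Algebra.linearMap A (CAlg2.normRed A))) + 1 := by
    intro s
    refine le_trans ?_ (DeltaLib.sum_length_le s fun m _ => hcomap m)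
    refine le_trans (le_of_eq ?_) (Finset.sum_le_sum (f := fun _ => (1 : ℕ∞)) fun m _ => ?_)
    · rw [Finset.sum_const, nsmul_eq_mul, mul_one]
    · haveI := m.isMaximal
      haveI : Nontrivial (CAlg2.normRed A ⧸ m.asIdeal) := Ideal.Quotient.nontrivial_iff.2 m.isMaximal.ne_top
      exact Order.one_le_iff_pos.2 Module.length_pos
  generalize Module.length A (CAlg2.normRed A ⧸ LinearMap.range (Algebra.linearMap A (CAlg2.normRed A))) + 1 = b at hs
  rcases finite_or_infinite (MaximalSpectrum (CAlg2.normRed A)) with h | h
  · haveI := Fintype.ofFinite (MaximalSpectrum (CAlg2.normRed A))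
    rw [ENat.card_eq_coe_fintype_card]
    exact hs Finset.univ
  · rw [ENat.card_eq_top_of_infinite]
    refine top_le_iff.2 (ENat.eq_top_iff_forall_ge.2 fun n => ?_)
    obtain ⟨s, hsn⟩ := Infinite.exists_subset_card_eq (MaximalSpectrum (CAlg2.normRed A)) n
    exact hsn ▸ hs s

/-- There is at least one branch. -/
theorem one_le_numBranches (A : Type u) [CommRing A] [IsLocalRing A] [IsReduced A]
    (hfin : (minimalPrimes A).Finite) : 1 ≤ Brnch.numBranches A := by
  classical
  rw [Brnch.numBranches, if_pos hfin]
  haveI : Nontrivial (CAlg2.red A) := Ideal.Quotient.nontrivial_iff.2 (by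
    rw [nilradical_eq_zero]
    exact bot_ne_top)
  haveI : Nontrivial (CAlg2.normRed A) := inferInstance
  haveI : Nonempty (MaximalSpectrum (CAlg2.normRed A)) := inferInstance
  exact Order.one_le_iff_pos.2 ENat.card_pos

/-- A module finite over the ground field has finite length. -/
theorem length_ne_top_of_finite {k R : Type u} [Field k] [CommRing R] [Algebra k R] (M : Type u)
    [AddCommGroup M] [Module R M] [Module k M] [IsScalarTower k R M] [Module.Finite k M] :
    Module.length R M ≠ ⊤ := by
  rw [Module.length_ne_top_iff, isFiniteLength_iff_isNoetherian_isArtinian]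
  exact ⟨isNoetherian_of_tower k (inferInstance : IsNoetherian k M),
    isArtinian_of_tower k (inferInstance : IsArtinian k M)⟩

variable {X X' : Scheme.{u}}

/-- A bijection of generic points with isomorphic residue fields is an isomorphism over a dense open. -/
theorem exists_dense_iso [IsNoetherian X] [IsNoetherian X'] [IsReduced X] [IsReduced X'] (π : X' ⟶ X)
    [IsFinite π]
    (hbij : Set.BijOn (fun x' : X' => π x') {x' : X' | closure ({x'} : Set X') ∈ irreducibleComponents (X' : Type u)}
      {x : X | closure ({x} : Set X) ∈ irreducibleComponents (X : Type u)})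
    (hres : ∀ x' : X', closure ({x'} : Set X') ∈ irreducibleComponents (X' : Type u) →
      Function.Bijective (π.residueFieldMap x').hom) :
    ∃ U : X.Opens, Dense (U : Set X) ∧ Dense ((π ⁻¹ᵁ U : X'.Opens) : Set X') ∧ IsIso (π ∣_ U) := by
  have hmax : ∀ {Z : Scheme.{u}} {z : Z}, closure {z} ∈ irreducibleComponents (Z : Type u) → ∀ y, y ⤳ z → y = z :=
    fun {Z z} hz y hy => MorLib.Birat.eq_of_specializes_generic (X := Z) hz hy
  have hXfin := TopologicalSpace.NoetherianSpace.finite_irreducibleComponents (α := X)
  have hX'fin := TopologicalSpace.NoetherianSpace.finite_irreducibleComponents (α := X')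
  have hiso : ∀ x' : X', closure {x'} ∈ irreducibleComponents (X' : Type u) → IsIso (π.stalkMap x') := by
    intro x' hx'
    have h' := DixBrauer.CurveReduced.isField_stalk_max (hmax hx')
    have h := DixBrauer.CurveReduced.isField_stalk_max (hmax (hbij.mapsTo hx'))
    have hinj : Function.Injective (X'.residue x') := by
      letI := h'.toField
      exact RingHom.injective (IsLocalRing.residue (X'.presheaf.stalk x'))
    refine (ConcreteCategory.isIso_iff_bijective _).2 ⟨?_, fun b => ?_⟩
    · letI := h.toField
      exact RingHom.injective (π.stalkMap x').hom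
    · obtain ⟨c, hc⟩ := (hres x' hx').2 (X'.residue x' b)
      obtain ⟨a, rfl⟩ := Scheme.residue_surjective X (π x') c
      exact ⟨a, hinj ((ConcreteCategory.congr_hom (Scheme.residue_residueFieldMap π x') a).symm.trans hc)⟩
  obtain ⟨V, hV, hVi⟩ := S9679.result π hX'fin hXfin hbij hiso (Or.inl inferInstance)
    (Or.inl ⟨inferInstance, inferInstance⟩)
  refine ⟨V, hV, MorLib.Birat.dense_of_genericPoints fun x' hx' => ?_, hVi⟩
  show π x' ∈ V
  obtain ⟨O, hO, hOne, hOW⟩ := TopologicalSpace.NoetherianSpace.exists_isOpen_nonempty_subset_irreducibleComponent _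
    (hbij.mapsTo hx')
  obtain ⟨y, hyO, hyV⟩ := hV.inter_open_nonempty O hO hOne
  exact (specializes_iff_mem_closure.2 (hOW hyO)).mem_open V.2 hyV

/-- On a Noetherian scheme with local domains the connected components are the irreducible ones. -/
theorem card_connectedComponents [IsNoetherian X'] (hX' : Pi1.IsNormalScheme X') :
    Nat.card (_root_.ConnectedComponents X') = Nat.card (irreducibleComponents (X' : Type u)) := by
  classical
  have hd : (irreducibleComponents (X' : Type u)).PairwiseDisjoint id := by
    refine H23.FinCondSch.pairwiseDisjoint_iff.2 fun x => ?_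
    haveI := (hX' x).1
    rw [nilradical_eq_zero]
    exact Ideal.isPrime_bot
  have hfin := TopologicalSpace.NoetherianSpace.finite_irreducibleComponents (α := X')
  have hclopen : ∀ Z ∈ irreducibleComponents (X' : Type u), IsClopen Z := fun Z hZ => by
    refine ⟨isClosed_of_mem_irreducibleComponents Z hZ, ?_⟩
    have : Zᶜ = ⋃ W ∈ irreducibleComponents (X' : Type u) \ {Z}, W := by
      ext y
      simp only [Set.mem_compl_iff, Set.mem_iUnion, Set.mem_sdiff, Set.mem_singleton_iff, exists_prop]
      refine ⟨fun hy => ⟨_, ⟨irreducibleComponent_mem_irreducibleComponents y, fun h => hy (h ▸ mem_irreducibleComponent)⟩,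
        mem_irreducibleComponent⟩, fun ⟨W, ⟨hW, hne⟩, hyW⟩ hy => hne (hd.elim hW hZ (Set.not_disjoint_iff.2 ⟨y, hyW, hy⟩))⟩
    rw [← isClosed_compl_iff, this]
    exact (hfin.subset Set.sdiff_subset).isClosed_biUnion fun W hW => isClosed_of_mem_irreducibleComponents W hW.1
  refine (Nat.card_eq_of_bijective (fun Z : irreducibleComponents (X' : Type u) =>
    ConnectedComponents.mk Z.2.1.1.choose) ⟨fun Z W h => ?_, ?_⟩).symm
  · rw [ConnectedComponents.coe_eq_coe'] at h
    exact Subtype.ext (hd.elim Z.2 W.2 (Set.not_disjoint_iff.2 ⟨_, Z.2.1.1.choose_spec,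
      (hclopen _ W.2).connectedComponent_subset W.2.1.1.choose_spec h⟩))
  · rintro ⟨x⟩
    refine ⟨⟨irreducibleComponent x, irreducibleComponent_mem_irreducibleComponents x⟩, ?_⟩
    refine ConnectedComponents.coe_eq_coe'.2 ?_
    exact (isIrreducible_irreducibleComponent.isPreirreducible.isPreconnected).subset_connectedComponent
      mem_irreducibleComponent (irreducibleComponent_mem_irreducibleComponents x).1.1.choose_spec

end Groth.Agent.CurvFam16.DeltaNorm
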