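import Groth.Prelude.Def_Curv2
import Groth.Agent.LS17.NodeFrob
import Groth.Agent.CycLib.FinLen
import Groth.Agent.DevK.FinrankLen
import Mathlib.RingTheory.Polynomial.ScaleRoots

/-! The stalk of the direct image of a normalisation is the integral closure of the local ring, and the
cokernel has length the delta invariant. -/

noncomputable section

set_option autoImplicit false
set_option linter.style.haveILetI false
set_option linter.unusedSectionVars false
set_option backward.isDefEq.respectTransparency false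
set_option backward.isDefEq.respectTransparency.types false

universe u

open CategoryTheory CategoryTheory.Limits AlgebraicGeometry TopologicalSpace Opposite
open scoped nonZeroDivisors
open Groth.Agent.LS17 Groth.Agent.LS17.NodeNorm Polynomial

namespace Groth.Agent.CurvFam16.DeltaNorm

variable {C C' : Scheme.{u}} [IsReduced C] {π : C' ⟶ C} {U : C.Opens}

/-- Integral fractions of the local ring lie in the stalk of the direct image. -/
theorem exists_root (hπ : IsNormalization π U) (x : C) (s a : C.presheaf.stalk x)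
    (hs : toB π x s ∈ (BSt π x)⁰) (P : (C.presheaf.stalk x)[X]) (hP : P.Monic)
    (heq : (P.scaleRoots s).eval a = 0) :
    ∃ b : BSt π x, toB π x s * b = toB π x a := by
  haveI := hπ.fin
  obtain ⟨W, hW, hxW, -⟩ := exists_isAffineOpen_mem_and_subset (U := (⊤ : C.Opens)) (x := x) trivial
  letI : Algebra Γ(C, W) (C.presheaf.stalk x) := C.presheaf.algebra_section_stalk ⟨x, hxW⟩
  haveI := hW.isLocalization_stalk ⟨x, hxW⟩
  let p := (hW.primeIdealOf ⟨x, hxW⟩).asIdeal
  obtain ⟨⟨S, ⟨d, hd⟩⟩, hS⟩ := IsLocalization.surj p.primeCompl s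
  obtain ⟨⟨T, ⟨e, he⟩⟩, hT⟩ := IsLocalization.surj p.primeCompl a
  have hdu : IsUnit (algebraMap Γ(C, W) (C.presheaf.stalk x) (d * e)) :=
    IsLocalization.map_units _ (⟨d * e, mul_mem hd he⟩ : p.primeCompl)
  rw [map_mul, IsUnit.mul_iff] at hdu
  obtain ⟨hdu, heu⟩ := hdu
  -- clear denominators
  suffices h : ∃ b : BSt π x, toB π x (algebraMap Γ(C, W) (C.presheaf.stalk x) (S * e)) * b =
      toB π x (algebraMap Γ(C, W) (C.presheaf.stalk x) (T * d)) by
    obtain ⟨b, hb⟩ := h
    rw [map_mul (algebraMap Γ(C, W) (C.presheaf.stalk x)), map_mul (algebraMap Γ(C, W) (C.presheaf.stalk x)),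
      ← hS, ← hT] at hb
    simp only [map_mul] at hb
    refine ⟨b, ((hdu.map (toB π x).hom).mul (heu.map (toB π x).hom)).mul_left_cancel ?_⟩
    linear_combination hb
  set S' := S * e
  set T' := T * d
  set s' : C.presheaf.stalk x := algebraMap Γ(C, W) _ S'
  set a' : C.presheaf.stalk x := algebraMap Γ(C, W) _ T'
  have hs' : toB π x s' ∈ (BSt π x)⁰ := by
    simp only [s', S', map_mul, ← hS]
    exact mul_mem (mul_mem hs (hdu.map (toB π x).hom).mem_nonZeroDivisors)
      (heu.map (toB π x).hom).mem_nonZeroDivisors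
  have heq' : (P.scaleRoots s').eval a' = 0 := by
    simp only [s', S', a', T', map_mul, ← hS, ← hT]
    generalize algebraMap Γ(C, W) (C.presheaf.stalk x) d = D, algebraMap Γ(C, W) (C.presheaf.stalk x) e = E
    rw [show s * D * E = s * (D * E) by ring, show a * E * D = (D * E) * a by ring, scaleRoots_mul]
    generalize D * E = δ
    have h := scaleRoots_eval₂_mul (p := P.scaleRoots s) (RingHom.id _) a δ
    simp only [RingHom.id_apply, eval₂_id] at h
    rw [h, heq, mul_zero]
  let B := Γ(C', π ⁻¹ᵁ W)
  letI : Algebra Γ(C, W) B := (π.app W).hom.toAlgebra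
  haveI : Algebra.IsIntegral Γ(C, W) B := ⟨(π.finite_app _ hW).to_isIntegral⟩
  let J : Ideal B :=
    { carrier := {h | ∃ β, h * π.app W T' = π.app W S' * β}
      add_mem' := fun {u v} ⟨β, hβ⟩ ⟨γ, hγ⟩ => ⟨β + γ, by rw [add_mul, mul_add, hβ, hγ]⟩
      zero_mem' := ⟨0, by rw [zero_mul, mul_zero]⟩
      smul_mem' := fun c u ⟨β, hβ⟩ => ⟨c * β, by rw [smul_eq_mul, mul_assoc, hβ, mul_left_comm]⟩ }
  by_cases hJ : J.comap (algebraMap Γ(C, W) B) ≤ p
  · exfalso
    obtain ⟨Q, hJQ, hQ, hQp⟩ := Ideal.exists_ideal_over_prime_of_isIntegral p J hJ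
    have hWπ : IsAffineOpen (π ⁻¹ᵁ W) := hW.preimage π
    let q : PrimeSpectrum B := ⟨Q, hQ⟩
    let y := hWπ.fromSpec q
    have hy : y ∈ π ⁻¹ᵁ W := (hWπ.isoSpec.inv q).2
    have hπy : π y = x := by
      have h1 : hW.fromSpec (Spec.map (π.app W) q) = π y := by
        rw [π.app_eq_appLE, ← Scheme.Hom.comp_apply, hW.SpecMap_appLE_fromSpec π hWπ le_rfl]
        rfl
      have h2 : Spec.map (π.app W) q = hW.primeIdealOf ⟨x, hxW⟩ := PrimeSpectrum.ext hQp
      rw [← h1, h2, hW.fromSpec_primeIdealOf]
    letI : Algebra B (C'.presheaf.stalk y) := C'.presheaf.algebra_section_stalk ⟨y, hy⟩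
    haveI : IsLocalization.AtPrime (C'.presheaf.stalk y) Q := hWπ.isLocalization_stalk' q hy
    haveI := (hπ.normal y).1
    haveI := (hπ.normal y).2
    obtain ⟨sy, hsy⟩ : ∃ sy : BSt π x →+* C'.presheaf.stalk y, ∀ f : B,
        sy (germB π hxW f) = algebraMap B (C'.presheaf.stalk y) f := by
      subst hπy
      exact ⟨(C'.presheaf.stalkPushforward CommRingCat π.base y).hom,
        fun f => ConcreteCategory.congr_hom (C'.presheaf.stalkPushforward_germ CommRingCat π.base W y hxW) f⟩
    let φ : C.presheaf.stalk x →+* C'.presheaf.stalk y := sy.comp (toB π x).hom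
    have hφ : ∀ f : Γ(C, W), φ (algebraMap Γ(C, W) _ f) = algebraMap B _ (π.app W f) := fun f => by
      show sy (toB π x (C.presheaf.germ W x hxW f)) = _
      rw [toB_germ, hsy]
    have hs0 : φ s' ≠ 0 := fun h0 => by
      rw [hφ] at h0
      obtain ⟨⟨h, hh⟩, hh0⟩ := (IsLocalization.map_eq_zero_iff Q.primeCompl _ _).1 h0
      have h1 : germB π hxW h = 0 := by
        refine mem_nonZeroDivisors_iff_right.1 hs' _ ?_
        rw [show toB π x s' = germB π hxW (π.app W S') from toB_germ π hxW S', ← map_mul]
        rw [hh0, map_zero]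
      have h2 := congrArg sy h1
      rw [hsy, map_zero] at h2
      exact (IsLocalization.map_units (C'.presheaf.stalk y) (⟨h, hh⟩ : Q.primeCompl)).ne_zero h2
    let F := FractionRing (C'.presheaf.stalk y)
    let z : F := algebraMap _ F (φ a') / algebraMap _ F (φ s')
    have hsF : algebraMap _ F (φ s') ≠ 0 := (map_ne_zero_iff _ (IsFractionRing.injective _ _)).2 hs0
    have hz : IsIntegral (C'.presheaf.stalk y) z := by
      refine ⟨P.map φ, hP.map φ, ?_⟩
      have h := scaleRoots_eval₂_mul (p := P.map φ) (algebraMap (C'.presheaf.stalk y) F) z (φ s')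
      rw [show algebraMap _ F (φ s') * z = algebraMap _ F (φ a') from mul_div_cancel₀ _ hsF] at h
      have h0 : Polynomial.eval₂ (algebraMap (C'.presheaf.stalk y) F) (algebraMap _ F (φ a'))
          ((P.map φ).scaleRoots (φ s')) = 0 := by
        rw [← map_scaleRoots P s' φ (by rw [hP.leadingCoeff, map_one]; exact one_ne_zero), eval₂_at_apply,
          eval_map_apply, heq', map_zero, map_zero]
      rw [h0] at h
      exact (mul_eq_zero.1 h.symm).resolve_left (pow_ne_zero _ hsF)
    obtain ⟨β, hβ⟩ := IsIntegrallyClosed.isIntegral_iff.1 hz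
    have hab : φ s' * β = φ a' := IsFractionRing.injective (C'.presheaf.stalk y) F (by
      rw [map_mul, hβ]; exact mul_div_cancel₀ _ hsF)
    obtain ⟨⟨βn, ⟨h, hh⟩⟩, hβh⟩ := IsLocalization.surj Q.primeCompl β
    have h2 : algebraMap B (C'.presheaf.stalk y) (h * π.app W T') =
        algebraMap B _ (π.app W S' * βn) := by
      rw [map_mul (algebraMap B (C'.presheaf.stalk y)), map_mul (algebraMap B (C'.presheaf.stalk y)),
        ← hφ, ← hφ, ← hβh]
      show _ * φ a' = φ s' * _
      rw [← hab]
      ring
    obtain ⟨⟨h', hh'⟩, he'⟩ := (IsLocalization.eq_iff_exists Q.primeCompl _).1 h2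
    exact mul_mem hh' hh (hJQ ⟨h' * βn, by rw [mul_assoc, he', mul_left_comm]⟩)
  · obtain ⟨f, ⟨β, hβ⟩, hfp⟩ := SetLike.not_le_iff_exists.1 hJ
    have hu : IsUnit (germB π hxW (π.app W f)) := by
      rw [← toB_germ]
      exact (IsLocalization.map_units (C.presheaf.stalk x) (⟨f, hfp⟩ : p.primeCompl)).map (toB π x).hom
    obtain ⟨u, hu⟩ := hu
    refine ⟨germB π hxW β * (↑u⁻¹ : BSt π x), ?_⟩
    rw [show toB π x s' = germB π hxW (π.app W S') from toB_germ π hxW S',
      show toB π x a' = germB π hxW (π.app W T') from toB_germ π hxW T', ← mul_assoc, ← map_mul, ← hβ,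
      map_mul, show germB π hxW (algebraMap Γ(C, W) B f) = u from hu.symm, mul_comm (↑u : BSt π x),
      Units.mul_inv_cancel_right]

variable [IsLocallyNoetherian C]

theorem toB_mem_nonZeroDivisors (hπ : IsNormalization π U) (x : C) {s : C.presheaf.stalk x}
    (hs : s ∈ (C.presheaf.stalk x)⁰) : toB π x s ∈ (BSt π x)⁰ := by
  refine mem_nonZeroDivisors_iff_right.2 fun b hb => ?_
  obtain ⟨t, a, ht, htB, e⟩ := exists_fraction hπ x b
  have h1 : toB π x (a * s) = 0 := by rw [map_mul, ← e, mul_assoc, hb, mul_zero]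
  have h2 : a = 0 := mem_nonZeroDivisors_iff_right.1 hs _ (toB_injective hπ x (h1.trans (map_zero _).symm))
  rw [h2, map_zero, mul_comm] at e
  exact mem_nonZeroDivisors_iff_right.1 htB _ e

/-- The stalk of the direct image is the integral closure in the total ring of fractions. -/
theorem exists_stalkEquiv (hπ : IsNormalization π U) (x : C) :
    letI := (toB π x).hom.toAlgebra
    Nonempty (integralClosure (C.presheaf.stalk x) (FractionRing (C.presheaf.stalk x)) ≃ₐ[C.presheaf.stalk x]
      BSt π x) := by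
  letI := (toB π x).hom.toAlgebra
  let A := C.presheaf.stalk x
  let L := FractionRing A
  let D := integralClosure A L
  have hex : ∀ z : D, ∃ b : BSt π x, ∀ (s : A⁰) (a : A), (z : L) * algebraMap A L s = algebraMap A L a →
      toB π x s * b = toB π x a := by
    intro z
    obtain ⟨⟨a, s⟩, e⟩ := IsLocalization.surj A⁰ (z : L)
    obtain ⟨P, hP, hPz⟩ := z.2
    have heq : (P.scaleRoots (s : A)).eval a = 0 := by
      apply IsFractionRing.injective A L
      have h := scaleRoots_eval₂_mul (p := P) (algebraMap A L) (z : L) (s : A)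
      rw [mul_comm _ (z : L), e, hPz, mul_zero, eval₂_at_apply] at h
      rw [h, map_zero]
    obtain ⟨b, hb⟩ := exists_root hπ x s a (toB_mem_nonZeroDivisors hπ x s.2) P hP heq
    refine ⟨b, fun s' a' e' => ?_⟩
    have h : (s : A) * a' = s' * a := IsFractionRing.injective A L (by
      rw [map_mul, map_mul, ← e, ← e']; ring)
    refine (mul_cancel_left_mem_nonZeroDivisors (toB_mem_nonZeroDivisors hπ x s.2)).1 ?_
    rw [← map_mul, h, map_mul, ← hb]
    ring
  choose f hf using hex
  have huniq : ∀ (z : D) (s : A⁰) (a : A) (b : BSt π x), (z : L) * algebraMap A L s = algebraMap A L a →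
      toB π x s * b = toB π x a → f z = b := fun z s a b e e' =>
    (mul_cancel_left_mem_nonZeroDivisors (toB_mem_nonZeroDivisors hπ x s.2)).1 ((hf z s a e).trans e'.symm)
  have hmap : ∀ r : A, f (algebraMap A D r) = toB π x r := fun r =>
    huniq _ 1 r _ (show algebraMap A L r * algebraMap A L ((1 : A⁰) : A) = _ by
      rw [OneMemClass.coe_one, map_one, mul_one]) (by rw [OneMemClass.coe_one, map_one, one_mul])
  let φ : D →ₐ[A] BSt π x :=
    { toFun := f
      map_one' := by
        have h := hmap 1
        simp only [map_one] at h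
        exact h
      map_mul' := fun z w => by
        obtain ⟨⟨a, s⟩, e⟩ := IsLocalization.surj A⁰ (z : L)
        obtain ⟨⟨c, t⟩, e'⟩ := IsLocalization.surj A⁰ (w : L)
        refine huniq _ (s * t) (a * c) _ ?_ ?_
        · show (z : L) * (w : L) * algebraMap A L ((s * t : A⁰) : A) = _
          rw [Submonoid.coe_mul, map_mul, map_mul, ← e, ← e']
          ring
        · rw [Submonoid.coe_mul, map_mul, map_mul, ← hf z s a e, ← hf w t c e']
          ring
      map_zero' := by
        have h := hmap 0
        simp only [map_zero] at h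
        exact h
      map_add' := fun z w => by
        obtain ⟨⟨a, s⟩, e⟩ := IsLocalization.surj A⁰ (z : L)
        obtain ⟨⟨c, t⟩, e'⟩ := IsLocalization.surj A⁰ (w : L)
        refine huniq _ (s * t) (a * t + c * s) _ ?_ ?_
        · show ((z : L) + (w : L)) * algebraMap A L ((s * t : A⁰) : A) = _
          rw [Submonoid.coe_mul, map_mul, map_add, map_mul, map_mul, ← e, ← e']
          ring
        · rw [Submonoid.coe_mul, map_mul, map_add, map_mul, map_mul, ← hf z s a e, ← hf w t c e']
          ring
      commutes' := hmap }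
  refine ⟨AlgEquiv.ofBijective φ ⟨(injective_iff_map_eq_zero φ).2 fun z hz => ?_, fun b => ?_⟩⟩
  · obtain ⟨⟨a, s⟩, e⟩ := IsLocalization.surj A⁰ (z : L)
    have h := hf z s a e
    rw [show f z = 0 from hz, mul_zero] at h
    rw [toB_injective hπ x (h.symm.trans (map_zero _).symm), map_zero] at e
    exact Subtype.ext (((IsLocalization.map_units L s).mul_left_eq_zero).1 e)
  · obtain ⟨s, a, hs, hsB, e⟩ := exists_fraction hπ x b
    obtain ⟨P, hP, hPb⟩ := toB_isIntegral hπ x b
    have heq : (P.scaleRoots s).eval a = 0 := by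
      apply toB_injective hπ x
      have h := scaleRoots_eval₂_mul (p := P) (toB π x).hom b s
      rw [show (toB π x).hom s * b = (toB π x).hom a from e, hPb, mul_zero, eval₂_at_apply] at h
      rw [map_zero]
      exact h
    let z : L := IsLocalization.mk' L a (⟨s, hs⟩ : A⁰)
    have hzs : z * algebraMap A L s = algebraMap A L a := IsLocalization.mk'_spec L a ⟨s, hs⟩
    have hz : IsIntegral A z := by
      refine ⟨P, hP, ?_⟩
      have h := scaleRoots_eval₂_mul (p := P) (algebraMap A L) z s
      rw [mul_comm _ z, hzs, eval₂_at_apply, heq, map_zero] at h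
      exact ((IsLocalization.map_units L (⟨s, hs⟩ : A⁰)).pow _).mul_right_eq_zero.1 h.symm
    exact ⟨⟨z, hz⟩, huniq _ ⟨s, hs⟩ a b hzs e⟩

/-- The length of the cokernel stalk is the delta invariant. -/
theorem length_stalk (hπ : IsNormalization π U) (x : C) :
    Module.length (C.presheaf.stalk x) ((NodeFrob.normSeq π).X₃.presheaf.stalk x) =
      Curv2.deltaInv (C.presheaf.stalk x) := by
  letI := (toB π x).hom.toAlgebra
  let A := C.presheaf.stalk x
  let Q := (NodeFrob.normSeq π).X₃
  let S := NodeFrob.normSeq π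
  have hres : ∀ {V O : C.Opens} (i : O ≤ V) (hxO : x ∈ O) (f : Γ(C', π ⁻¹ᵁ V)),
      Q.presheaf.germ O x hxO (S.g.app O (C'.presheaf.map ((Opens.map π.base).map (homOfLE i)).op f)) =
        Q.presheaf.germ V x (i hxO) (S.g.app V f) := fun {V O} i hxO f => by
    rw [← Q.presheaf.germ_res_apply (homOfLE i) x hxO]
    exact congrArg _ (ConcreteCategory.congr_hom (S.g.mapPresheaf.naturality (homOfLE i).op) f)
  have hex : ∀ b : BSt π x, ∃ q, ∀ (V : C.Opens) (hx : x ∈ V) (f : Γ(C', π ⁻¹ᵁ V)), germB π hx f = b →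
      Q.presheaf.germ V x hx (S.g.app V f) = q := by
    intro b
    obtain ⟨V₀, hx₀, f₀, hf₀⟩ := exists_germB π b
    refine ⟨Q.presheaf.germ V₀ x hx₀ (S.g.app V₀ f₀), fun V hx f hf => ?_⟩
    let O := V ⊓ V₀
    have hxO : x ∈ O := ⟨hx, hx₀⟩
    refine (hres (inf_le_left : O ≤ V) hxO f).symm.trans (Eq.trans ?_ (hres (inf_le_right : O ≤ V₀) hxO f₀))
    refine sub_eq_zero.1 ?_
    refine Eq.trans (map_sub (Q.presheaf.germ O x hxO).hom _ _).symm ?_
    refine Eq.trans (congrArg _ (map_sub (S.g.app O).hom _ _).symm) ?_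
    refine NodeFrob.g_germ_eq hxO _ ?_
    rw [map_sub, germB_res, germB_res, hf, hf₀, sub_self]
    exact Subring.zero_mem _
  choose h hh using hex
  have hgerm : ∀ {V : C.Opens} (hx : x ∈ V) (f : Γ(C', π ⁻¹ᵁ V)),
      h (germB π hx f) = Q.presheaf.germ V x hx (S.g.app V f) := fun hx f => (hh _ _ hx f rfl).symm
  let hl : BSt π x →ₗ[A] Q.presheaf.stalk x :=
    { toFun := h
      map_add' := fun b c => by
        obtain ⟨V, hxV, f, rfl⟩ := exists_germB π b
        obtain ⟨W, hxW, g, rfl⟩ := exists_germB π c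
        let O := V ⊓ W
        have hxO : x ∈ O := ⟨hxV, hxW⟩
        rw [← germB_res π (inf_le_left : O ≤ V) hxO f, ← germB_res π (inf_le_right : O ≤ W) hxO g, ← map_add,
          hgerm, hgerm, hgerm]
        exact (congrArg _ (map_add (S.g.app O).hom _ _)).trans (map_add _ _ _)
      map_smul' := fun a b => by
        obtain ⟨V, hxV, s, rfl⟩ := TopCat.Presheaf.exists_germ_eq C.presheaf a
        obtain ⟨W, hxW, f, rfl⟩ := exists_germB π b
        let O := V ⊓ W
        have hxO : x ∈ O := ⟨hxV, hxW⟩
        rw [← C.presheaf.germ_res_apply (homOfLE (inf_le_left : O ≤ V)) x hxO s,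
          ← germB_res π (inf_le_right : O ≤ W) hxO f]
        show h (toB π x _ * _) = _
        rw [toB_germ, ← map_mul, hgerm, hgerm]
        refine Eq.trans ?_ (QCoh.germ_smul' Q hxO _ _)
        exact congrArg _ (S.g.app_smul _ _) }
  have hsurj : Function.Surjective hl := fun q => by
    obtain ⟨V, hxV, f, rfl⟩ := NodeFrob.exists_g_germ_eq q
    exact ⟨germB π hxV f, hgerm hxV f⟩
  have hker : LinearMap.ker hl = LinearMap.range (Algebra.linearMap A (BSt π x)) := by
    ext b
    obtain ⟨V, hxV, f, rfl⟩ := exists_germB π b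
    rw [LinearMap.mem_ker]
    show h (germB π hxV f) = 0 ↔ _
    rw [hgerm]
    exact ⟨fun h0 => NodeFrob.exists_of_germ_g_eq_zero hxV f h0, fun h0 => NodeFrob.g_germ_eq hxV f h0⟩
  obtain ⟨e⟩ := exists_stalkEquiv hπ x
  rw [← (hl.quotKerEquivOfSurjective hsurj).length_eq]
  unfold Curv2.deltaInv
  refine (LinearEquiv.length_eq (Submodule.Quotient.equiv _ _ e.toLinearEquiv ?_)).symm
  rw [hker, ← LinearMap.range_comp]
  congr 1
  exact LinearMap.ext fun r => e.commutes r

/-- A module over a local algebra, finite-dimensional over the ground field, has dimension its length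
times the residue degree. -/
theorem finrank_eq_length_mul_of_finite {k R : Type u} [Field k] [CommRing R] [IsNoetherianRing R] [IsLocalRing R]
    [Algebra k R] [Module.Finite k (IsLocalRing.ResidueField R)] (M : Type u) [AddCommGroup M] [Module R M]
    [Module k M] [IsScalarTower k R M] [Module.Finite k M] :
    Module.finrank k M = (Module.length R M).toNat * Module.finrank k (IsLocalRing.ResidueField R) := by
  haveI : Module.Finite R M := Module.Finite.of_restrictScalars_finite k R M
  refine (DevK.finrank_eq_length_mul (k := k) (R := R) (M := M) fun p hp => ?_).2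
  haveI : IsArtinian R M := isArtinian_of_tower k (inferInstance : IsArtinian k M)
  haveI : IsArtinianRing (R ⧸ Module.annihilator R M) := by
    obtain ⟨n, s, hs⟩ := Module.Finite.exists_fin (R := R) (M := M)
    let g : R →ₗ[R] (Fin n → M) := LinearMap.pi fun i => (LinearMap.id (R := R) (M := R)).smulRight (s i)
    have hg : LinearMap.ker g = Module.annihilator R M := by
      ext r
      rw [LinearMap.mem_ker, Module.mem_annihilator]
      refine ⟨fun h0 m => ?_, fun h0 => funext fun i => h0 (s i)⟩
      have hm : m ∈ Submodule.span R (Set.range s) := hs ▸ trivial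
      induction hm using Submodule.span_induction with
      | mem m hm => obtain ⟨i, rfl⟩ := hm; exact congrFun h0 i
      | zero => rw [smul_zero]
      | add a b _ _ ha hb => rw [smul_add, ha, hb, add_zero]
      | smul c a _ ha => rw [smul_comm, ha, smul_zero]
    haveI : IsArtinian R (R ⧸ Module.annihilator R M) := by
      rw [← hg]
      exact isArtinian_of_injective ((LinearMap.range g).subtype ∘ₗ g.quotKerEquivRange.toLinearMap)
        ((Submodule.injective_subtype _).comp g.quotKerEquivRange.injective)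
    exact isArtinian_of_tower R (inferInstance : IsArtinian R (R ⧸ Module.annihilator R M))
  rw [Module.support_eq_zeroLocus] at hp
  haveI : (p.asIdeal.map (Ideal.Quotient.mk (Module.annihilator R M))).IsPrime :=
    Ideal.map_isPrime_of_surjective Ideal.Quotient.mk_surjective (by rw [Ideal.mk_ker]; exact hp)
  haveI := IsArtinianRing.isMaximal_of_isPrime (p.asIdeal.map (Ideal.Quotient.mk (Module.annihilator R M)))
  have hmax : p.asIdeal.IsMaximal := by
    have h := Ideal.comap_isMaximal_of_surjective (Ideal.Quotient.mk (Module.annihilator R M))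
      Ideal.Quotient.mk_surjective (K := p.asIdeal.map (Ideal.Quotient.mk (Module.annihilator R M)))
    rwa [Ideal.comap_map_of_surjective _ Ideal.Quotient.mk_surjective, ← RingHom.ker_eq_comap_bot,
      Ideal.mk_ker, sup_eq_left.2 hp] at h
  exact Set.mem_singleton_iff.2 (PrimeSpectrum.ext (IsLocalRing.eq_maximalIdeal hmax))

end Groth.Agent.CurvFam16.DeltaNorm
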